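import Groth.Agent.LocalImm.StalkSurj
import Groth.Agent.FpqcDescent.Flat
import Mathlib.RingTheory.Unramified.LocalRing
import Mathlib.AlgebraicGeometry.Morphisms.Finite
import Mathlib.AlgebraicGeometry.Morphisms.Etale
import Mathlib.AlgebraicGeometry.Morphisms.FlatMono

/-!
# Finite unramified morphisms with a one point fibre
-/

set_option autoImplicit false
set_option backward.isDefEq.respectTransparency.types false

universe u

open CategoryTheory CategoryTheory.Limits AlgebraicGeometry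

namespace Groth.Agent.OnePointFibre

variable {X S : Scheme.{u}} (f : X ⟶ S) [IsFinite f] [FormallyUnramified f] (x : X)
  (hx : f.base ⁻¹' {f x} = {x}) (hκ : Function.Surjective (f.residueFieldMap x))

include hx hκ

theorem stalkMap_surjective : Function.Surjective (f.stalkMap x) := by
  obtain ⟨_, ⟨U, hU, rfl⟩, hxU, -⟩ :=
    S.isBasis_affineOpens.exists_subset_of_mem_open (Set.mem_univ (f x)) isOpen_univ
  have hV : IsAffineOpen (f ⁻¹ᵁ U) := hU.preimage f
  have hfin : (f.app U).hom.Finite := IsFinite.finite_app (f := f) U hU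
  have hfu : (f.appLE U (f ⁻¹ᵁ U) le_rfl).hom.FormallyUnramified :=
    HasRingHomProperty.appLE @FormallyUnramified f ‹_› ⟨U, hU⟩ ⟨f ⁻¹ᵁ U, hV⟩ le_rfl
  rw [← f.appLE_eq_app] at hfin
  algebraize [(f.appLE U (f ⁻¹ᵁ U) le_rfl).hom]
  let p := hU.primeIdealOf ⟨f x, hxU⟩
  let q := hV.primeIdealOf ⟨x, hxU⟩
  have hover : q.asIdeal.LiesOver p.asIdeal :=
    ⟨congr($(IsAffineOpen.comap_primeIdealOf_appLE U hU (f ⁻¹ᵁ U) hV le_rfl hxU).1).symm⟩
  have hsingle : p.asIdeal.primesOver Γ(X, f ⁻¹ᵁ U) = {q.asIdeal} := by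
    ext P
    refine ⟨?_, fun h ↦ h ▸ ⟨q.2, hover⟩⟩
    rintro ⟨hP, hPo⟩
    let P' : PrimeSpectrum Γ(X, f ⁻¹ᵁ U) := ⟨P, hP⟩
    have h1 : f (hV.fromSpec P') = f x := by
      rw [← Scheme.Hom.comp_apply, ← IsAffineOpen.SpecMap_appLE_fromSpec f hU hV le_rfl,
        Scheme.Hom.comp_apply]
      have : (Spec.map (f.appLE U (f ⁻¹ᵁ U) le_rfl)) P' = p := PrimeSpectrum.ext hPo.over.symm
      rw [this]
      exact hU.fromSpec_primeIdealOf ⟨f x, hxU⟩
    have h2 : hV.fromSpec P' = x := by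
      have : hV.fromSpec P' ∈ f.base ⁻¹' {f x} := h1
      rwa [hx] at this
    have h3 : P' = q :=
      hV.fromSpec.isOpenEmbedding.injective (h2.trans (hV.fromSpec_primeIdealOf ⟨x, hxU⟩).symm)
    exact congrArg PrimeSpectrum.asIdeal h3
  let := Localization.AtPrime.algebraOfLiesOver p.asIdeal q.asIdeal
  let e := IsAffineOpen.arrowStalkMapIso f U hU (f ⁻¹ᵁ U) hV le_rfl hxU
  have happrox : ∀ a : X.presheaf.stalk x, ∃ b : S.presheaf.stalk (f x),
      ¬ IsUnit (a - f.stalkMap x b) := by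
    intro a
    obtain ⟨z, hz⟩ := hκ (X.residue x a)
    obtain ⟨b, rfl⟩ := IsLocalRing.residue_surjective z
    refine ⟨b, fun hu ↦ (IsLocalRing.residue_ne_zero_iff_isUnit _).mpr hu ?_⟩
    rw [map_sub, sub_eq_zero]
    exact hz.symm.trans (IsLocalRing.ResidueField.map_residue (f.stalkMap x).hom b)
  have H : Function.Surjective (algebraMap p.asIdeal.ResidueField q.asIdeal.ResidueField) := by
    intro z
    obtain ⟨a, rfl⟩ := IsLocalRing.residue_surjective z
    let er : X.presheaf.stalk x ≃+* Localization.AtPrime q.asIdeal := (Arrow.rightFunc.mapIso e).commRingCatIsoToRingEquiv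
    let el : S.presheaf.stalk (f x) ≃+* Localization.AtPrime p.asIdeal := (Arrow.leftFunc.mapIso e).commRingCatIsoToRingEquiv
    obtain ⟨b, hb⟩ := happrox (er.symm a)
    refine ⟨IsLocalRing.residue _ (el b), ?_⟩
    have hcomm : er (f.stalkMap x b) =
        Localization.localRingHom p.asIdeal q.asIdeal (f.appLE U (f ⁻¹ᵁ U) le_rfl).hom
          hover.over (el b) :=
      congr($(e.hom.w.symm) b)
    have hne : ¬ IsUnit (a - er (f.stalkMap x b)) := by
      intro hu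
      apply hb
      have := hu.map er.symm
      rwa [map_sub, er.symm_apply_apply] at this
    rw [hcomm, ← IsLocalRing.residue_ne_zero_iff_isUnit, not_not, map_sub, sub_eq_zero] at hne
    exact hne.symm
  have := Localization.localRingHom_surjective_of_primesOver_eq_singleton hsingle H
  exact (RingHom.surjective_respectsIso.arrow_mk_iso_iff e).mpr this

theorem exists_isClosedImmersion :
    ∃ U : S.Opens, f x ∈ U ∧ IsClosedImmersion (f ∣_ U) := by
  obtain ⟨U, V, hUV, hxU, hci⟩ :=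
    LocalImm.isLocalImmersionAt_of_stalkMap_surjective f x (stalkMap_surjective f x hx hκ)
  let W : S.Opens := ⟨(V : Set S) ∩ (f '' (U : Set X)ᶜ)ᶜ,
    V.2.inter (f.isClosedMap _ U.2.isClosed_compl).isOpen_compl⟩
  have hWU : f ⁻¹ᵁ W ≤ U := fun y hy ↦ by
    by_contra hyU
    exact hy.2 ⟨y, hyU, rfl⟩
  refine ⟨W, ⟨hUV hxU, ?_⟩, ?_⟩
  · rintro ⟨y, hy, hfy⟩
    have : y ∈ f.base ⁻¹' {f x} := hfy
    rw [hx] at this
    exact hy (this ▸ hxU)
  have e : (f ∣_ W) ≫ W.ι = X.homOfLE hWU ≫ f.resLE V U hUV ≫ V.ι := by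
    rw [morphismRestrict_ι, Scheme.Hom.resLE_comp_ι, Scheme.homOfLE_ι_assoc]
  have : IsImmersion ((f ∣_ W) ≫ W.ι) := by rw [e]; infer_instance
  have : IsImmersion (f ∣_ W) := .of_comp _ W.ι
  exact .of_isPreimmersion _ (f ∣_ W).isClosedMap.isClosed_range

omit [FormallyUnramified f] in
theorem exists_isIso [Etale f] : ∃ U : S.Opens, f x ∈ U ∧ IsIso (f ∣_ U) := by
  obtain ⟨U, hxU, hU⟩ := exists_isClosedImmersion f x hx hκ
  have := IsOpenImmersion.of_flat_of_mono (f ∣_ U)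
  let W : S.Opens := U.ι ''ᵁ (f ∣_ U).opensRange
  refine ⟨W, ⟨⟨f x, hxU⟩, ⟨⟨x, hxU⟩, ?_⟩, rfl⟩, ?_⟩
  · exact Subtype.ext (morphismRestrict_base_coe f U ⟨x, hxU⟩)
  have hWU : W ≤ U := Scheme.Opens.ι_image_le _ _
  have hp : IsPullback (f ⁻¹ᵁ W).ι (f ∣_ W) f W.ι := (isPullback_morphismRestrict f W).flip
  have hmono : IsOpenImmersion ((f ∣_ W) ≫ W.ι) := by
    have e : (f ∣_ W) ≫ W.ι = X.homOfLE (f.preimage_mono hWU) ≫ (f ∣_ U) ≫ U.ι := by
      rw [morphismRestrict_ι, morphismRestrict_ι, Scheme.homOfLE_ι_assoc]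
    rw [e]; infer_instance
  have : IsOpenImmersion (f ∣_ W) := .of_comp _ W.ι
  refine isIso_of_isOpenImmersion_of_opensRange_eq_top _ ?_
  rw [eq_top_iff]
  rintro ⟨w, hw⟩ -
  obtain ⟨w', ⟨y, hy⟩, hw'⟩ := hw
  have hfy : f y.1 = w := by
    rw [← morphismRestrict_base_coe f U y, ← hw']
    exact congrArg (fun t ↦ U.ι t) hy
  refine ⟨⟨y.1, show f y.1 ∈ W from hfy ▸ ⟨w', ⟨y, hy⟩, hw'⟩⟩, Subtype.ext ?_⟩
  exact (morphismRestrict_base_coe f W _).trans hfy

end Groth.Agent.OnePointFibre
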